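import Groth.Agent.DiagHomLib.Rep
import Groth.Agent.DescLib.Open
import Groth.Agent.DescLib.QAff
import Groth.Agent.GalTwLib.Grp

/-!
Homomorphisms between quasi-isotrivial groups of multiplicative type form a twisted constant scheme.
-/

set_option autoImplicit false
set_option backward.isDefEq.respectTransparency false

noncomputable section

universe u

open CategoryTheory CategoryTheory.Limits MonoidalCategory CartesianMonoidalCategory AlgebraicGeometry Opposite
open scoped MonObj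

namespace DiagHomLib

open RepDescLib (homSec isSheaf_homSec IsRepOver)

variable {S : Scheme.{u}} {H G : Over S} [GrpObj H] [GrpObj G]

/-- A disjoint union of separated morphisms is separated. -/
theorem isSeparated_sigmaDesc {κ : Type u} {X : κ → Scheme.{u}} {Y : Scheme.{u}} (f : ∀ i, X i ⟶ Y)
    [∀ i, IsSeparated (f i)] : IsSeparated (Sigma.desc f) := by
  let D := Sigma.desc f
  refine ⟨.of_isPreimmersion (pullback.diagonal D) ?_⟩
  rw [← isOpen_compl_iff, isOpen_iff_forall_mem_open]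
  intro z hz
  obtain ⟨⟨i, a⟩, ha⟩ := (sigmaMk X).surjective ((pullback.fst D D).base z)
  obtain ⟨⟨j, b⟩, hb⟩ := (sigmaMk X).surjective ((pullback.snd D D).base z)
  rw [sigmaMk_mk] at ha hb
  by_cases hij : i = j
  · subst hij
    let m : pullback (f i) (f i) ⟶ pullback D D := pullback.map _ _ _ _ (Sigma.ι X i) (Sigma.ι X i) (𝟙 Y)
      (by simp [D]) (by simp [D])
    have hzm : z ∈ Set.range m.base := by
      rw [Scheme.Pullback.range_map]
      exact ⟨⟨a, ha⟩, ⟨b, hb⟩⟩
    obtain ⟨w, rfl⟩ := hzm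
    have hm : ∀ x, m.base ((pullback.diagonal (f i)).base x) =
        (pullback.diagonal D).base ((Sigma.ι X i).base x) := fun x => by
      have e : pullback.diagonal (f i) ≫ m = Sigma.ι X i ≫ pullback.diagonal D := by
        apply pullback.hom_ext <;> simp [m]
      exact congrArg (fun k => k.base x) e
    refine ⟨m.base '' (Set.range (pullback.diagonal (f i)).base)ᶜ, ?_,
      m.isOpenEmbedding.isOpenMap _ (pullback.diagonal (f i)).isClosedEmbedding.isClosed_range.isOpen_compl,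
      ⟨w, fun ⟨x, hx⟩ => hz ⟨(Sigma.ι X i).base x, by rw [← hm, hx]⟩, rfl⟩⟩
    rintro _ ⟨w', hw', rfl⟩ ⟨y, hy⟩
    have h1 : y = (Sigma.ι X i).base ((pullback.fst (f i) (f i)).base w') := by
      have e1 : (pullback.fst D D).base ((pullback.diagonal D).base y) = y := by
        rw [← Scheme.Hom.comp_apply, pullback.diagonal_fst]; rfl
      have e2 : m ≫ pullback.fst D D = pullback.fst (f i) (f i) ≫ Sigma.ι X i := by simp [m]
      rw [← e1, hy]
      exact congrArg (fun k => k.base w') e2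
    exact hw' ⟨(pullback.fst (f i) (f i)).base w',
      m.isOpenEmbedding.injective (by rw [hm, ← h1, hy])⟩
  · refine ⟨(pullback.fst D D).base ⁻¹' Set.range (Sigma.ι X i).base ∩
        (pullback.snd D D).base ⁻¹' Set.range (Sigma.ι X j).base, ?_,
      ((Sigma.ι X i).isOpenEmbedding.isOpen_range.preimage (pullback.fst D D).continuous).inter
        ((Sigma.ι X j).isOpenEmbedding.isOpen_range.preimage (pullback.snd D D).continuous),
      ⟨⟨a, ha⟩, ⟨b, hb⟩⟩⟩
    rintro _ ⟨⟨a', ha'⟩, ⟨b', hb'⟩⟩ ⟨y, rfl⟩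
    rw [← Scheme.Hom.comp_apply, pullback.diagonal_fst] at ha'
    rw [← Scheme.Hom.comp_apply, pullback.diagonal_snd] at hb'
    have e : sigmaMk X ⟨i, a'⟩ = sigmaMk X ⟨j, b'⟩ := by
      rw [sigmaMk_mk, sigmaMk_mk]; exact ha'.trans hb'.symm
    exact hij (congrArg Sigma.fst ((sigmaMk X).injective e))

theorem exists_chart {M : Type} [AddCommGroup M] {U : Scheme.{u}} (g : U ⟶ S)
    (w : Grp.mk (Red.bc g H) ≅ Grp.mk (Red.DS U M)) :
    Nonempty (DiagChart H ((Over.map g).obj (𝟙_ (Over U))) M) := by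
  let e : Red.bc g H ≅ Red.DS U M := (Grp.forget _).mapIso w
  haveI : IsMonHom e.hom := w.hom.hom.isMonHom_hom
  exact ⟨chartOfIso g e.hom⟩

/-- A chart of both groups around a point. -/
structure LocData (H G : Over S) [GrpObj H] [GrpObj G] (s : S) where
  /-- the piece -/
  U : Scheme.{u}
  /-- its map -/
  g : U ⟶ S
  etale : Etale g
  mem : s ∈ Set.range g
  /-- characters of the source -/
  M : Type
  /-- characters of the target -/
  N : Type
  [instM : AddCommGroup M]
  [instN : AddCommGroup N]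
  fg : AddGroup.FG N
  /-- chart of the source -/
  cH : DiagChart H ((Over.map g).obj (𝟙_ (Over U))) M
  /-- chart of the target -/
  cG : DiagChart G ((Over.map g).obj (𝟙_ (Over U))) N

attribute [instance] LocData.instM LocData.instN

theorem nonempty_locData
    (hH : TwC.Locally S TwC.Topology.etale (fun S' f => ∃ (M : Type) (_ : AddCommGroup M),
      Nonempty (Grp.mk (Red.bc f H) ≅ Grp.mk (Red.DS S' M))))
    (hG : TwC.Locally S TwC.Topology.etale (fun S' f => ∃ (M : Type) (_ : AddCommGroup M),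
      AddGroup.FG M ∧ Nonempty (Grp.mk (Red.bc f G) ≅ Grp.mk (Red.DS S' M)))) (s : S) :
    Nonempty (LocData H G s) := by
  obtain ⟨U₁, f₁, hf₁, ⟨y₁, hy₁⟩, M, instM, ⟨w₁⟩⟩ := hH s
  obtain ⟨U₂, f₂, hf₂, ⟨y₂, hy₂⟩, N, instN, hfg, ⟨w₂⟩⟩ := hG s
  obtain ⟨c₁⟩ := exists_chart f₁ w₁
  obtain ⟨c₂⟩ := exists_chart f₂ w₂
  let g := pullback.fst f₁ f₂ ≫ f₁
  haveI := hf₁
  haveI := hf₂
  obtain ⟨y, hy, -⟩ := Scheme.Pullback.exists_preimage_pullback (f := f₁) (g := f₂) y₁ y₂ (hy₁.trans hy₂.symm)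
  let j₁ : (Over.map g).obj (𝟙_ (Over (pullback f₁ f₂))) ⟶ (Over.map f₁).obj (𝟙_ (Over U₁)) :=
    Over.homMk (pullback.fst f₁ f₂) (by show pullback.fst f₁ f₂ ≫ 𝟙 U₁ ≫ f₁ = 𝟙 _ ≫ g; simp [g])
  let j₂ : (Over.map g).obj (𝟙_ (Over (pullback f₁ f₂))) ⟶ (Over.map f₂).obj (𝟙_ (Over U₂)) :=
    Over.homMk (pullback.snd f₁ f₂) (by show pullback.snd f₁ f₂ ≫ 𝟙 U₂ ≫ f₂ = 𝟙 _ ≫ g; simp [g, pullback.condition])
  exact ⟨{ U := pullback f₁ f₂, g := g, etale := inferInstanceAs (Etale (pullback.fst f₁ f₂ ≫ f₁)),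
           mem := ⟨y, by rw [Scheme.Hom.comp_apply, hy, hy₁]⟩, M := M, N := N, fg := hfg,
           cH := c₁.restrict j₁, cG := c₂.restrict j₂ }⟩

/-- The homomorphisms form a scheme, constant over each piece. -/
theorem exists_rep (d : ∀ s, LocData H G s) :
    ∃ (D : Over S) (u₀ : (homSec H G).obj D),
      (∀ (T : Over S) (φ : (homSec H G).obj T), ∃! a : T ⟶ D, (homSec H G).res a u₀ = φ) ∧
      ∀ s, ∃ θ : TwC.const (d s).U (Idx.{u} (d s).M (d s).N) ⟶ Red.bc (d s).g D, IsIso θ ∧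
        ∀ ψ, (H ◁ ((Over.mapPullbackAdj (d s).g).homEquiv (𝟙_ (Over (d s).U)) D).symm
            (TwC.pt (d s).U (Idx.{u} (d s).M (d s).N) ⟨ψ⟩ ≫ θ)) ≫ u₀.1 =
          phiOf (d s).cH (d s).cG (𝟙 _) ψ := by
  haveI : ∀ s, AddGroup.FG (d s).N := fun s => (d s).fg
  let P : S → Over S := fun s => (Over.map (d s).g).obj (𝟙_ (Over (d s).U))
  choose u hu hrep using fun s => exists_homFam (d s).cH (d s).cG
  obtain ⟨A', π', u', hrep', ε, hπ'⟩ := RepDescLib.isRepOver_sigma (isSheaf_homSec H G)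
    (fun s => homProj (P s) (d s).M (d s).N) u hrep
  let P' : Over S := Over.mk (Limits.Sigma.desc fun s => (P s).hom)
  haveI het : ∀ s, Etale (P s).hom := fun s =>
    haveI := (d s).etale
    inferInstanceAs (Etale (𝟙 _ ≫ (d s).g))
  haveI : Etale P'.hom := by
    refine IsZariskiLocalAtSource.of_openCover (P := @Etale) (sigmaOpenCover _) fun s => ?_
    change Etale (Sigma.ι _ s ≫ Limits.Sigma.desc _)
    rw [Sigma.ι_desc]
    exact het s
  haveI : Surjective P'.hom := ⟨fun s => by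
    obtain ⟨y, hy⟩ := (d s).mem
    refine ⟨Sigma.ι (fun s => (P s).left) s y, ?_⟩
    show (Sigma.ι (fun s => (P s).left) s ≫ Limits.Sigma.desc fun s => (P s).hom) y = s
    rw [Sigma.ι_desc]
    exact hy⟩
  haveI : DescLib.Fpqc P'.hom :=
    ⟨Scheme.fppfPrecoverage_le_fpqcPrecoverage _ (Scheme.Hom.singleton_mem_fppfPrecoverage P'.hom)⟩
  haveI hπe : Etale π'.left := by
    rw [hπ']
    haveI := DescLib.property_sigmaMap @Etale (fun s => (homProj (P s) (d s).M (d s).N).left) fun s => etale_homProj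
    infer_instance
  haveI hπs : IsSeparated π'.left := by
    rw [hπ']
    haveI := DescLib.property_sigmaMap @IsSeparated (fun s => (homProj (P s) (d s).M (d s).N).left) fun s =>
      isSeparated_sigmaDesc (fun _ : Idx.{u} (d s).M (d s).N => 𝟙 (P s).left)
    infer_instance
  obtain ⟨D, u₀, q, huniv, -, -⟩ := RepDescLib.exists_rep_of_cover (P := P') (isSheaf_homSec H G) hrep' fun E hE => by
    haveI : Etale E.obj.hom := by rw [hE]; exact hπe
    haveI : IsSeparated E.obj.hom := by rw [hE]; exact hπs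
    haveI : LocallyQuasiFinite E.obj.hom := DescLib.lqf_of_unramified E.obj.hom
    exact DescLib.effective_sep_lqf E
  refine ⟨D, u₀, huniv, fun s => ?_⟩
  let Ψ := Idx.{u} (d s).M (d s).N
  let adj := Over.mapPullbackAdj (d s).g
  let c : (Over.map (d s).g).obj (TwC.const (d s).U Ψ) ⟶ homObj (P s) (d s).M (d s).N :=
    Over.homMk (𝟙 _) (by
      show 𝟙 _ ≫ (Sigma.desc fun _ => 𝟙 (d s).U) ≫ 𝟙 _ ≫ (d s).g = (Sigma.desc fun _ => 𝟙 (d s).U) ≫ (d s).g
      simp)
  obtain ⟨b, hb⟩ := (huniv (homObj (P s) (d s).M (d s).N) (u s)).exists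
  have hb' : (H ◁ b) ≫ u₀.1 = (u s).1 := congrArg Subtype.val hb
  let θ : TwC.const (d s).U Ψ ⟶ Red.bc (d s).g D := adj.homEquiv _ D (c ≫ b)
  have hθ : ∀ {T : Over (d s).U} (a : T ⟶ TwC.const (d s).U Ψ),
      (adj.homEquiv T D).symm (a ≫ θ) = ((Over.map (d s).g).map a ≫ c) ≫ b := by
    intro T a
    rw [Adjunction.homEquiv_naturality_left_symm, Equiv.symm_apply_apply, Category.assoc]
  haveI : IsIso θ := isIso_of_yoneda_map_bijective θ fun T => by
    have hx : ∀ a : T ⟶ TwC.const (d s).U Ψ, ((Over.map (d s).g).map a ≫ c) ≫ homProj (P s) (d s).M (d s).N =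
        (Over.map (d s).g).map (toUnit T) := fun a => Over.OverMorphism.ext (by
      show (a.left ≫ 𝟙 _) ≫ (Sigma.desc fun _ => 𝟙 (d s).U) = (toUnit T).left
      rw [Category.comp_id]
      exact (Over.w a).trans ((Category.comp_id _).symm.trans (Over.w (toUnit T))).symm)
    constructor
    · intro a a' h
      have h' := congrArg (adj.homEquiv T D).symm (h : a ≫ θ = a' ≫ θ)
      rw [hθ, hθ] at h'
      have h2 := congrArg (fun z => (homSec H G).res z u₀) h'
      simp only [(homSec H G).res_comp _ b, hb] at h2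
      have h3 := (hrep s).hom_ext ((hx a).trans (hx a').symm) h2
      apply Over.OverMorphism.ext
      have h4 := congrArg Over.Hom.left h3
      simpa [c] using h4
    · intro y
      obtain ⟨a₀, ⟨ha₀, ha₀'⟩, -⟩ := hrep s ((Over.map (d s).g).obj T) ((Over.map (d s).g).map (toUnit T))
        ((homSec H G).res ((adj.homEquiv T D).symm y) u₀)
      let a : T ⟶ TwC.const (d s).U Ψ := Over.homMk a₀.left (by
        have := congrArg Over.Hom.left ha₀
        exact this.trans ((Category.comp_id _).symm.trans (Over.w (toUnit T))))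
      refine ⟨a, (adj.homEquiv T D).symm.injective ((hθ a).trans ((huniv _ _).unique ?_ rfl))⟩
      have e : (Over.map (d s).g).map a ≫ c = a₀ := Over.OverMorphism.ext (Category.comp_id _)
      rw [e, (homSec H G).res_comp, hb]
      exact ha₀'
  refine ⟨θ, inferInstance, fun ψ => ?_⟩
  rw [hθ, MonoidalCategory.whiskerLeft_comp, Category.assoc, hb']
  have e : (Over.map (d s).g).map (TwC.pt (d s).U Ψ ⟨ψ⟩) ≫ c = homPt (P s) ψ :=
    Over.OverMorphism.ext (Category.comp_id _)
  rw [e]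
  exact congrArg Subtype.val (hu s ψ)

end DiagHomLib
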