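import Groth.Agent.MultHomLib.Char

/-!
Multiplicative families of group-like elements of a group algebra are locally given by maps of groups.
-/

set_option autoImplicit false
set_option backward.isDefEq.respectTransparency false

noncomputable section

universe u

namespace DiagHomLib

open Groth.Agent.EqNhd (cf cf_single ext_cf)
open Groth.Agent.FreeAct (chr)
open Groth.Agent.MultHom (chr_eq_of_isUnit)

variable {R : Type u} [CommRing R] {M M' : Type} [AddCommGroup M] [AddCommGroup M']

/-- Squared by the diagonal and sent to one by the counit. -/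
def GroupLike (f : Multiplicative M' →* MonoidAlgebra R (Multiplicative M)) : Prop :=
  ∀ m, MonoidAlgebra.mapDomainAlgHom R R ((MonoidHom.id _).prod (MonoidHom.id _)) (f m) =
      MonoidAlgebra.mapDomainAlgHom R R (MonoidHom.inl (Multiplicative M) (Multiplicative M)) (f m) *
        MonoidAlgebra.mapDomainAlgHom R R (MonoidHom.inr (Multiplicative M) (Multiplicative M)) (f m) ∧
    chr (R := R) R (1 : Multiplicative M →* R) (f m) = 1

/-- Some coefficient avoids a given prime. -/
theorem exists_cf_not_mem (a : MonoidAlgebra R (Multiplicative M))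
    (h : chr (R := R) R (1 : Multiplicative M →* R) a = 1) (t : PrimeSpectrum R) :
    ∃ x, cf x a ∉ t.asIdeal := by
  classical
  by_contra hne
  simp only [not_exists, not_not] at hne
  have key : ∀ b : MonoidAlgebra R (Multiplicative M), (∀ x, cf x b ∈ t.asIdeal) →
      chr (R := R) R (1 : Multiplicative M →* R) b ∈ t.asIdeal := by
    intro b hb
    let B := MonoidAlgebra.basis (Multiplicative M) R
    rw [← B.linearCombination_repr b, Finsupp.linearCombination_apply, map_finsuppSum]
    refine Submodule.sum_mem _ fun x _ => ?_
    show chr (R := R) R (1 : Multiplicative M →* R) (B.repr b x • B x) ∈ t.asIdeal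
    rw [map_smul, smul_eq_mul]
    refine t.asIdeal.mul_mem_right _ ?_
    have : B.repr b x = cf x b := by
      refine DFunLike.congr_fun (f := (Finsupp.lapply x).comp B.repr.toLinearMap) (g := cf x)
        (B.ext fun z => ?_) b
      rw [LinearMap.comp_apply]
      show Finsupp.lapply x (B.repr (B z)) = cf x (B z)
      rw [Module.Basis.repr_self]
      simp [B, cf_single, Finsupp.single_apply]
    rw [this]
    exact hb x
  exact t.isPrime.ne_top ((Ideal.eq_top_iff_one _).2 (h ▸ key a hne))

/-- Near every prime such a family is given by a map of groups. -/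
theorem exists_local_hom [AddGroup.FG M'] (f : Multiplicative M' →* MonoidAlgebra R (Multiplicative M))
    (h : GroupLike f) (t : PrimeSpectrum R) :
    ∃ r : R, r ∉ t.asIdeal ∧ ∃ ψ : Multiplicative M' →* Multiplicative M,
      ∀ (A : Type u) [CommRing A] [Algebra R A], IsUnit (algebraMap R A r) →
        ∀ (L : MonoidAlgebra R (Multiplicative M) →ₐ[R] A) (m : Multiplicative M'),
          L (f m) = L (MonoidAlgebra.single (ψ m) 1) := by
  classical
  choose x hx using fun m => exists_cf_not_mem (f m) (h m).2 t
  let F := t.asIdeal.ResidueField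
  let L : MonoidAlgebra R (Multiplicative M) →ₐ[R] MonoidAlgebra F (Multiplicative M) :=
    chr (R := R) _ (MonoidAlgebra.of F (Multiplicative M))
  have hL : ∀ m, L (f m) = MonoidAlgebra.single (x m) (1 : F) := fun m => by
    rw [chr_eq_of_isUnit (f m) (h m).1 (x m) L ?_]
    · simp [L, chr]
    · rw [IsScalarTower.algebraMap_apply R F (MonoidAlgebra F (Multiplicative M))]
      exact (Ne.isUnit fun hne => hx m (Ideal.algebraMap_residueField_eq_zero.1 hne)).map _
  have hinj : Function.Injective fun y : Multiplicative M => (MonoidAlgebra.single y (1 : F)) :=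
    fun a b hab => by simpa using MonoidAlgebra.single_left_injective one_ne_zero hab
  let ψ : Multiplicative M' →* Multiplicative M :=
    { toFun := x
      map_one' := hinj (by
        show MonoidAlgebra.single (x 1) (1 : F) = MonoidAlgebra.single 1 1
        rw [← hL, map_one, map_one]
        rfl)
      map_mul' := fun a b => hinj (by
        show MonoidAlgebra.single (x (a * b)) (1 : F) = MonoidAlgebra.single (x a * x b) 1
        rw [← hL, map_mul, map_mul, hL, hL, MonoidAlgebra.single_mul_single, one_mul]) }
  obtain ⟨s, hs⟩ : ∃ s : Finset (Multiplicative M'), Subgroup.closure (s : Set (Multiplicative M')) = ⊤ :=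
    Group.FG.out
  refine ⟨∏ m ∈ s, cf (x m) (f m), fun hmem => ?_, ψ, fun A _ _ hA L m => ?_⟩
  · obtain ⟨m, -, hm⟩ := t.isPrime.prod_mem_iff.1 hmem
    exact hx m hm
  · rw [map_prod, IsUnit.prod_iff] at hA
    refine DFunLike.congr_fun (f := L.toRingHom.toMonoidHom.comp f)
      (g := (L.toRingHom.toMonoidHom.comp (MonoidAlgebra.of R (Multiplicative M))).comp ψ)
      (MonoidHom.eq_of_eqOn_dense hs fun m hm => ?_) m
    exact chr_eq_of_isUnit (f m) (h m).1 (x m) L (hA m hm)

end DiagHomLib
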