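import Groth.Agent.DiagHomLib.Alg
import Groth.Agent.RepDescLib.Hom
import Groth.Agent.DSPtsLib.Basic
import Groth.Prelude.Def_ActBC

/-!
Families of homomorphisms between groups which are diagonalisable over a piece of the base.
-/

set_option autoImplicit false
set_option backward.isDefEq.respectTransparency false

noncomputable section

universe u

open CategoryTheory CategoryTheory.Limits MonoidalCategory CartesianMonoidalCategory AlgebraicGeometry
open scoped MonObj

namespace DiagHomLib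

open Groth.Agent.FreeAct (chr)

variable {S : Scheme.{u}}

/-- The points of a group which is diagonalisable over a piece. -/
structure DiagChart (H P : Over S) [GrpObj H] (M : Type) [AddCommGroup M] where
  /-- characters of the points -/
  pts : ∀ {T : Over S}, (T ⟶ P) → ((T ⟶ H) ≃ (Multiplicative M →* Γ(T.left, ⊤)))
  natural : ∀ {T' T : Over S} (a : T' ⟶ T) (x : T ⟶ P) (h : T ⟶ H),
    pts (a ≫ x) (a ≫ h) = a.left.appTop.hom.toMonoidHom.comp (pts x h)
  mul : ∀ {T : Over S} (x : T ⟶ P) (h h' : T ⟶ H), pts x (h * h') = pts x h * pts x h'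

variable {H P : Over S} [GrpObj H] {M : Type} [AddCommGroup M]

theorem DiagChart.symm_natural (c : DiagChart H P M) {T' T : Over S} (a : T' ⟶ T) (x : T ⟶ P)
    (χ : Multiplicative M →* Γ(T.left, ⊤)) :
    a ≫ (c.pts x).symm χ = (c.pts (a ≫ x)).symm (a.left.appTop.hom.toMonoidHom.comp χ) := by
  apply (c.pts (a ≫ x)).injective
  rw [c.natural, Equiv.apply_symm_apply, Equiv.apply_symm_apply]

theorem DiagChart.symm_mul (c : DiagChart H P M) {T : Over S} (x : T ⟶ P)
    (χ χ' : Multiplicative M →* Γ(T.left, ⊤)) :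
    (c.pts x).symm (χ * χ') = (c.pts x).symm χ * (c.pts x).symm χ' := by
  apply (c.pts x).injective
  rw [c.mul, Equiv.apply_symm_apply, Equiv.apply_symm_apply, Equiv.apply_symm_apply]

/-- Restriction of a chart. -/
def DiagChart.restrict (c : DiagChart H P M) {P' : Over S} (j : P' ⟶ P) : DiagChart H P' M where
  pts x := c.pts (x ≫ j)
  natural a x h := by
    show c.pts ((a ≫ x) ≫ j) (a ≫ h) = _
    rw [Category.assoc]
    exact c.natural a (x ≫ j) h
  mul x h h' := c.mul _ h h'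

/-- The diagonalisable group has a chart everywhere. -/
def dsChart (P : Over S) (M : Type) [AddCommGroup M] : DiagChart (Red.DS S M) P M where
  pts {T} _ := (Equiv.ofBijective _ (DSPtsLib.dsPt_bijective (M := M) T)).symm
  natural {T' T} a x h := by
    obtain ⟨χ, rfl⟩ := (DSPtsLib.dsPt_bijective (M := M) T).2 h
    rw [DSPtsLib.dsPt_natural, Equiv.ofBijective_symm_apply_apply, Equiv.ofBijective_symm_apply_apply]
  mul {T} x h h' := by
    obtain ⟨χ, rfl⟩ := (DSPtsLib.dsPt_bijective (M := M) T).2 h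
    obtain ⟨χ', rfl⟩ := (DSPtsLib.dsPt_bijective (M := M) T).2 h'
    rw [← DSPtsLib.dsPt_mul, Equiv.ofBijective_symm_apply_apply, Equiv.ofBijective_symm_apply_apply,
      Equiv.ofBijective_symm_apply_apply]

/-- The scheme over the base with the same underlying scheme as one over a piece. -/
def pieceOver {U : Scheme.{u}} (g : U ⟶ S) {T : Over S} (x : T ⟶ (Over.map g).obj (𝟙_ (Over U))) :
    (Over.map g).obj (Over.mk x.left) ≅ T :=
  Over.isoMk (Iso.refl _) (by
    show 𝟙 _ ≫ T.hom = x.left ≫ g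
    rw [Category.id_comp, ← Over.w x]
    exact congrArg (x.left ≫ ·) (Category.id_comp g))

section OfIso

variable {U : Scheme.{u}} (g : U ⟶ S) (θ : Red.bc g H ⟶ Red.DS U M)

/-- A point as a point of the diagonalisable group. -/
def toDS {T : Over S} (x : T ⟶ (Over.map g).obj (𝟙_ (Over U))) (h : T ⟶ H) :
    Over.mk x.left ⟶ Red.DS U M :=
  (Over.mapPullbackAdj g).homEquiv (Over.mk x.left) H ((pieceOver g x).hom ≫ h) ≫ θ

theorem toDS_bijective [IsIso θ] {T : Over S} (x : T ⟶ (Over.map g).obj (𝟙_ (Over U))) :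
    Function.Bijective (toDS g θ x) := by
  have h1 : Function.Bijective fun h : T ⟶ H => (pieceOver g x).hom ≫ h :=
    ⟨fun _ _ e => (cancel_epi (pieceOver g x).hom).1 e, fun y => ⟨(pieceOver g x).inv ≫ y, by simp⟩⟩
  have h2 : Function.Bijective fun v : Over.mk x.left ⟶ Red.bc g H => v ≫ θ :=
    ⟨fun _ _ e => (cancel_mono θ).1 e, fun y => ⟨y ≫ inv θ, by simp⟩⟩
  exact h2.comp (((Over.mapPullbackAdj g).homEquiv (Over.mk x.left) H).bijective.comp h1)

theorem toDS_mul [IsMonHom θ] {T : Over S} (x : T ⟶ (Over.map g).obj (𝟙_ (Over U))) (h h' : T ⟶ H) :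
    toDS g θ x (h * h') = toDS g θ x h * toDS g θ x h' := by
  rw [toDS, toDS, toDS, MonObj.comp_mul, AlgGrp.Action.homEquiv_mul, MonObj.mul_comp]

theorem toDS_natural {T' T : Over S} (a : T' ⟶ T) (x : T ⟶ (Over.map g).obj (𝟙_ (Over U))) (h : T ⟶ H) :
    toDS g θ (a ≫ x) (a ≫ h) = (Over.homMk a.left rfl : Over.mk (a ≫ x).left ⟶ Over.mk x.left) ≫ toDS g θ x h := by
  have e : (pieceOver g (a ≫ x)).hom ≫ a ≫ h =
      (Over.map g).map (Over.homMk a.left rfl : Over.mk (a ≫ x).left ⟶ Over.mk x.left) ≫ ((pieceOver g x).hom ≫ h) :=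
    Over.OverMorphism.ext (by simp [pieceOver])
  rw [toDS, toDS, e, Adjunction.homEquiv_naturality_left, Category.assoc]

/-- The chart given by an isomorphism with a diagonalisable group over a piece. -/
def chartOfIso [IsIso θ] [IsMonHom θ] : DiagChart H ((Over.map g).obj (𝟙_ (Over U))) M where
  pts {T} x := (Equiv.ofBijective _ (toDS_bijective g θ x)).trans
    (Equiv.ofBijective _ (DSPtsLib.dsPt_bijective (M := M) (Over.mk x.left))).symm
  natural {T' T} a x h := by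
    simp only [Equiv.trans_apply, Equiv.ofBijective_apply]
    rw [toDS_natural]
    generalize toDS g θ x h = v
    obtain ⟨χ, rfl⟩ := (DSPtsLib.dsPt_bijective (M := M) (Over.mk x.left)).2 v
    rw [DSPtsLib.dsPt_natural]
    erw [Equiv.ofBijective_symm_apply_apply, Equiv.ofBijective_symm_apply_apply]
    rfl
  mul {T} x h h' := by
    simp only [Equiv.trans_apply, Equiv.ofBijective_apply]
    rw [toDS_mul]
    generalize toDS g θ x h = v
    generalize toDS g θ x h' = v'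
    obtain ⟨χ, rfl⟩ := (DSPtsLib.dsPt_bijective (M := M) (Over.mk x.left)).2 v
    obtain ⟨χ', rfl⟩ := (DSPtsLib.dsPt_bijective (M := M) (Over.mk x.left)).2 v'
    rw [← DSPtsLib.dsPt_mul]
    erw [Equiv.ofBijective_symm_apply_apply, Equiv.ofBijective_symm_apply_apply,
      Equiv.ofBijective_symm_apply_apply]

end OfIso

variable {G : Over S} [GrpObj G] {N : Type} [AddCommGroup N] (cH : DiagChart H P M) (cG : DiagChart G P N)

/-- The family given by a map of character groups. -/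
def phiOf {T : Over S} (x : T ⟶ P) (ψ : Multiplicative N →* Multiplicative M) : H ⊗ T ⟶ G :=
  (cG.pts (snd H T ≫ x)).symm ((cH.pts (snd H T ≫ x) (fst H T)).comp ψ)

theorem lift_phiOf {T X : Over S} (x : T ⟶ P) (ψ : Multiplicative N →* Multiplicative M) (h : X ⟶ H) (t : X ⟶ T) :
    lift h t ≫ phiOf cH cG x ψ = (cG.pts (t ≫ x)).symm ((cH.pts (t ≫ x) h).comp ψ) := by
  rw [phiOf, cG.symm_natural, ← MonoidHom.comp_assoc, ← cH.natural, lift_snd_assoc, lift_fst]

theorem isHomFamily_phiOf {T : Over S} (x : T ⟶ P) (ψ : Multiplicative N →* Multiplicative M) :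
    AutFam.IsHomFamily H G (phiOf cH cG x ψ) := by
  intro X g₁ g₂ t
  rw [lift_phiOf, lift_phiOf, lift_phiOf, cH.mul, MonoidHom.mul_comp, cG.symm_mul]

theorem phiOf_natural {T' T : Over S} (a : T' ⟶ T) (x : T ⟶ P) (ψ : Multiplicative N →* Multiplicative M) :
    (H ◁ a) ≫ phiOf cH cG x ψ = phiOf cH cG (a ≫ x) ψ := by
  rw [show (H ◁ a : H ⊗ T' ⟶ H ⊗ T) = lift (fst H T') (snd H T' ≫ a) by ext1 <;> simp, lift_phiOf, phiOf,
    Category.assoc]

theorem phiOf_mul {T : Over S} (x : T ⟶ P) (ψ ψ' : Multiplicative N →* Multiplicative M) :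
    phiOf cH cG x (ψ * ψ') = phiOf cH cG x ψ * phiOf cH cG x ψ' := by
  rw [phiOf, phiOf, phiOf, ← cG.symm_mul, MonoidHom.comp_mul]

/-! ### Test schemes over an affine scheme -/

section Test

variable {T : Over S} [IsAffine T.left]

/-- The test scheme of an algebra over the functions. -/
def tst (T : Over S) [IsAffine T.left] (A : Type u) [CommRing A] [Algebra Γ(T.left, ⊤) A] : Over S :=
  Over.mk (Spec.map (CommRingCat.ofHom (algebraMap Γ(T.left, ⊤) A)) ≫ T.left.isoSpec.inv ≫ T.hom)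

/-- The structure map of a test scheme. -/
def tq (T : Over S) [IsAffine T.left] (A : Type u) [CommRing A] [Algebra Γ(T.left, ⊤) A] : tst T A ⟶ T :=
  Over.homMk (Spec.map (CommRingCat.ofHom (algebraMap Γ(T.left, ⊤) A)) ≫ T.left.isoSpec.inv) (Category.assoc _ _ _)

/-- The functions on a test scheme. -/
def gam (A : Type u) [CommRing A] [Algebra Γ(T.left, ⊤) A] : A ≃* Γ((tst T A).left, ⊤) :=
  (Scheme.ΓSpecIso (CommRingCat.of A)).symm.commRingCatIsoToRingEquiv.toMulEquiv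

theorem exists_toTst {X : Over S} (t : X ⟶ T) (A : Type u) [CommRing A] [Algebra Γ(T.left, ⊤) A]
    (L : A →+* Γ(X.left, ⊤)) (hL : L.comp (algebraMap Γ(T.left, ⊤) A) = t.left.appTop.hom) :
    ∃ k : X ⟶ tst T A, k ≫ tq T A = t ∧ ∀ a : A, k.left.appTop (gam A a) = L a := by
  have hw : (X.left.toSpecΓ ≫ Spec.map (CommRingCat.ofHom L)) ≫
      (Spec.map (CommRingCat.ofHom (algebraMap Γ(T.left, ⊤) A)) ≫ T.left.isoSpec.inv) = t.left := by
    rw [Category.assoc, ← Spec.map_comp_assoc, ← CommRingCat.ofHom_comp, hL, CommRingCat.ofHom_hom,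
      ← Scheme.toSpecΓ_naturality_assoc, ← Scheme.isoSpec_hom, Iso.hom_inv_id, Category.comp_id]
  let k : X ⟶ tst T A := Over.homMk (X.left.toSpecΓ ≫ Spec.map (CommRingCat.ofHom L)) (by
    show _ ≫ (Spec.map (CommRingCat.ofHom (algebraMap Γ(T.left, ⊤) A)) ≫ T.left.isoSpec.inv ≫ T.hom) = X.hom
    rw [← Category.assoc (Spec.map _) (Scheme.isoSpec _).inv, ← Category.assoc, hw, Over.w t])
  refine ⟨k, Over.OverMorphism.ext hw, fun a => ?_⟩
  have h : (Scheme.ΓSpecIso (CommRingCat.of A)).inv ≫ (X.left.toSpecΓ ≫ Spec.map (CommRingCat.ofHom L)).appTop =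
      CommRingCat.ofHom L := by
    rw [Scheme.Hom.comp_appTop, ← Scheme.ΓSpecIso_inv_naturality_assoc, Scheme.toSpecΓ_appTop, Iso.inv_hom_id,
      Category.comp_id]
  exact RingHom.congr_fun (congrArg CommRingCat.Hom.hom h) a

/-- The point of the group over a test scheme with given characters. -/
def ptA (x : T ⟶ P) {A : Type u} [CommRing A] [Algebra Γ(T.left, ⊤) A] (χ : Multiplicative M →* A) : tst T A ⟶ H :=
  (cH.pts (tq T A ≫ x)).symm ((gam A).toMonoidHom.comp χ)

variable (x : T ⟶ P) (φ : H ⊗ T ⟶ G)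

/-- The character of the value of a family at a point. -/
def val {X : Over S} (t : X ⟶ T) (h : X ⟶ H) : Multiplicative N →* Γ(X.left, ⊤) := cG.pts (t ≫ x) (lift h t ≫ φ)

theorem val_natural {X' X : Over S} (a : X' ⟶ X) (t : X ⟶ T) (h : X ⟶ H) :
    val cG x φ (a ≫ t) (a ≫ h) = a.left.appTop.hom.toMonoidHom.comp (val cG x φ t h) := by
  rw [val, val, ← cG.natural, comp_lift_assoc, Category.assoc]

/-- The family of group-like elements attached to a family of homomorphisms. -/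
def univFam : Multiplicative N →* MonoidAlgebra Γ(T.left, ⊤) (Multiplicative M) :=
  (gam (T := T) (MonoidAlgebra Γ(T.left, ⊤) (Multiplicative M))).symm.toMonoidHom.comp
    (val cG x φ (tq T _) (ptA cH x (MonoidAlgebra.of Γ(T.left, ⊤) (Multiplicative M))))

theorem val_eq_univFam {X : Over S} (t : X ⟶ T) (h : X ⟶ H)
    (L : MonoidAlgebra Γ(T.left, ⊤) (Multiplicative M) →+* Γ(X.left, ⊤))
    (hL : L.comp (algebraMap Γ(T.left, ⊤) _) = t.left.appTop.hom)
    (hL' : ∀ m, L (MonoidAlgebra.of Γ(T.left, ⊤) (Multiplicative M) m) = cH.pts (t ≫ x) h m) :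
    val cG x φ t h = L.toMonoidHom.comp (univFam cH cG x φ) := by
  obtain ⟨k, hk, hk'⟩ := exists_toTst t _ L hL
  have hh : k ≫ ptA cH x (MonoidAlgebra.of Γ(T.left, ⊤) (Multiplicative M)) = h := by
    apply (cH.pts (t ≫ x)).injective
    rw [ptA, cH.symm_natural, ← Category.assoc, hk, Equiv.apply_symm_apply]
    exact MonoidHom.ext fun m => (hk' _).trans (hL' m)
  refine MonoidHom.ext fun n => ?_
  conv_lhs => rw [← hh, ← hk, val_natural]
  show k.left.appTop _ = L ((gam (T := T) _).symm _)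
  rw [← hk', MulEquiv.apply_symm_apply]

theorem val_ptA {A : Type u} [CommRing A] [Algebra Γ(T.left, ⊤) A] (χ : Multiplicative M →* A) (n : Multiplicative N) :
    val cG x φ (tq T A) (ptA cH x χ) n = gam A (chr (R := Γ(T.left, ⊤)) A χ (univFam cH cG x φ n)) := by
  refine DFunLike.congr_fun (val_eq_univFam cH cG x φ (tq T A) (ptA cH x χ)
    (((Scheme.ΓSpecIso (CommRingCat.of A)).inv.hom).comp (chr (R := Γ(T.left, ⊤)) A χ).toRingHom) ?_ fun m => ?_) n
  · rw [RingHom.comp_assoc, show (chr (R := Γ(T.left, ⊤)) A χ).toRingHom.comp (algebraMap Γ(T.left, ⊤) _) =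
      algebraMap Γ(T.left, ⊤) A from RingHom.ext fun c => (chr (R := Γ(T.left, ⊤)) A χ).commutes c]
    show ((Scheme.ΓSpecIso (CommRingCat.of A)).inv.hom).comp (algebraMap Γ(T.left, ⊤) A) =
      (Spec.map (CommRingCat.ofHom (algebraMap Γ(T.left, ⊤) A)) ≫ T.left.isoSpec.inv).appTop.hom
    have h : T.left.isoSpec.inv.appTop = (Scheme.ΓSpecIso Γ(T.left, ⊤)).inv := by
      have h1 : T.left.isoSpec.inv.appTop ≫ T.left.toSpecΓ.appTop = 𝟙 _ ∨ True := Or.inr trivial
      rw [← cancel_mono T.left.isoSpec.hom.appTop, ← Scheme.Hom.comp_appTop, Iso.hom_inv_id, Scheme.isoSpec_hom,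
        Scheme.toSpecΓ_appTop, Iso.inv_hom_id, Scheme.Hom.id_appTop]
    rw [Scheme.Hom.comp_appTop, h, ← Scheme.ΓSpecIso_inv_naturality]
    rfl
  · rw [ptA, Equiv.apply_symm_apply]
    show (Scheme.ΓSpecIso (CommRingCat.of A)).inv (chr (R := Γ(T.left, ⊤)) A χ (MonoidAlgebra.of _ _ m)) = _
    rw [chr, MonoidAlgebra.lift_of]
    rfl

theorem groupLike_univFam (hφ : AutFam.IsHomFamily H G φ) : GroupLike (univFam cH cG x φ) := by
  intro n
  have hmul : ∀ {A : Type u} [CommRing A] [Algebra Γ(T.left, ⊤) A] (χ χ' : Multiplicative M →* A),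
      chr (R := Γ(T.left, ⊤)) A (χ * χ') (univFam cH cG x φ n) =
        chr (R := Γ(T.left, ⊤)) A χ (univFam cH cG x φ n) * chr (R := Γ(T.left, ⊤)) A χ' (univFam cH cG x φ n) := by
    intro A _ _ χ χ'
    apply (gam (T := T) A).injective
    rw [map_mul, ← val_ptA, ← val_ptA, ← val_ptA]
    have : ptA cH x (χ * χ') = ptA cH x χ * ptA cH x χ' := by
      rw [ptA, ptA, ptA, ← cH.symm_mul]
      congr 1
      exact MonoidHom.ext fun m => map_mul (gam A) _ _
    rw [this, val, val, val, hφ, cG.mul]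
    rfl
  refine ⟨?_, ?_⟩
  · let I := MonoidAlgebra Γ(T.left, ⊤) (Multiplicative M × Multiplicative M)
    have e : ∀ (j : Multiplicative M →* Multiplicative M × Multiplicative M) (a : MonoidAlgebra Γ(T.left, ⊤) (Multiplicative M)),
        MonoidAlgebra.mapDomainAlgHom Γ(T.left, ⊤) Γ(T.left, ⊤) j a =
          chr (R := Γ(T.left, ⊤)) I ((MonoidAlgebra.of _ _).comp j) a := fun j a =>
      DFunLike.congr_fun ((MonoidAlgebra.lift Γ(T.left, ⊤) I (Multiplicative M)).symm.injective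
        (MonoidHom.ext fun m => by simp [chr, I])) a
    rw [e, e, e, ← hmul]
    congr 2
    refine MonoidHom.ext fun m => ?_
    simp [MonoidAlgebra.single_mul_single]
  · have h := hmul (A := Γ(T.left, ⊤)) 1 1
    rw [one_mul] at h
    have hu : IsUnit (chr (R := Γ(T.left, ⊤)) Γ(T.left, ⊤) (1 : Multiplicative M →* Γ(T.left, ⊤)) (univFam cH cG x φ n)) :=
      ((Group.isUnit n).map (univFam cH cG x φ)).map _
    exact (hu.mul_eq_left).1 h.symm

end Test

variable {T : Over S} (x : T ⟶ P)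

theorem exists_open_phiOf [AddGroup.FG N] (φ : H ⊗ T ⟶ G) (hφ : AutFam.IsHomFamily H G φ) (z : T.left) :
    ∃ (U : Over S) (j : U ⟶ T), IsOpenImmersion j.left ∧ z ∈ Set.range j.left ∧
      ∃ ψ : Multiplicative N →* Multiplicative M, (H ◁ j) ≫ φ = phiOf cH cG (j ≫ x) ψ := by
  obtain ⟨V, hV, hzV, -⟩ := exists_isAffineOpen_mem_and_subset (X := T.left) (x := z) (U := ⊤) (Set.mem_univ z)
  let T₁ : Over S := Over.mk (V.ι ≫ T.hom)
  let j₁ : T₁ ⟶ T := Over.homMk V.ι rfl
  haveI : IsAffine T₁.left := hV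
  let φ₁ := (H ◁ j₁) ≫ φ
  have hφ₁ : AutFam.IsHomFamily H G φ₁ := RepDescLib.isHomFamily_comp H G j₁ hφ
  let z₁ : T₁.left := ⟨z, hzV⟩
  obtain ⟨r, hr, ψ, hψ⟩ := exists_local_hom (univFam cH cG (j₁ ≫ x) φ₁)
    (groupLike_univFam cH cG (j₁ ≫ x) φ₁ hφ₁) (T₁.left.isoSpec.hom z₁)
  let W : T₁.left.Opens := T₁.left.basicOpen r
  have hzW : z₁ ∈ W := by
    show z₁ ∈ T₁.left.basicOpen r
    rw [← Scheme.toSpecΓ_preimage_basicOpen]
    exact hr
  let T₂ : Over S := Over.mk (W.ι ≫ T₁.hom)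
  let j₂ : T₂ ⟶ T₁ := Over.homMk W.ι rfl
  refine ⟨T₂, j₂ ≫ j₁, inferInstanceAs (IsOpenImmersion (W.ι ≫ V.ι)), ⟨⟨z₁, hzW⟩, rfl⟩, ψ, ?_⟩
  rw [MonoidalCategory.whiskerLeft_comp, Category.assoc]
  show (H ◁ j₂) ≫ φ₁ = _
  let t := snd H T₂ ≫ j₂
  rw [show (H ◁ j₂ : H ⊗ T₂ ⟶ H ⊗ T₁) = lift (fst H T₂) t by ext1 <;> simp [t]]
  apply (cG.pts (t ≫ j₁ ≫ x)).injective
  show val cG (j₁ ≫ x) φ₁ t (fst H T₂) = _
  letI : Algebra Γ(T₁.left, ⊤) Γ((H ⊗ T₂).left, ⊤) := t.left.appTop.hom.toAlgebra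
  let L := chr (R := Γ(T₁.left, ⊤)) Γ((H ⊗ T₂).left, ⊤) (cH.pts (t ≫ j₁ ≫ x) (fst H T₂))
  rw [val_eq_univFam cH cG (j₁ ≫ x) φ₁ t (fst H T₂) L.toRingHom (RingHom.ext fun a => L.commutes a) fun m => by
    show L _ = _
    simp [L, chr, Algebra.smul_def]]
  have hunit : IsUnit (algebraMap Γ(T₁.left, ⊤) Γ((H ⊗ T₂).left, ⊤) r) := by
    have h1 : IsUnit (W.ι.appTop r) := by
      refine RingedSpace.isUnit_of_isUnit_germ _ ⊤ _ fun z hz => ?_
      refine ((W : Scheme.{u}).mem_basicOpen (W.ι.appTop r) z hz).1 ?_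
      rw [← Scheme.preimage_basicOpen_top]
      exact z.2
    show IsUnit ((snd H T₂).left.appTop ((Over.Hom.left j₂).appTop r))
    exact h1.map _
  refine MonoidHom.ext fun n => ?_
  show L (univFam cH cG (j₁ ≫ x) φ₁ n) = _
  rw [hψ _ hunit L n, phiOf]
  show L _ = (cG.pts (t ≫ j₁ ≫ x)) _ n
  have e : t ≫ j₁ ≫ x = snd H T₂ ≫ (j₂ ≫ j₁) ≫ x := by simp [t]
  rw [e, Equiv.apply_symm_apply]
  simp [L, chr, t, Algebra.smul_def]

theorem phiOf_injective [Nonempty T.left] {ψ ψ' : Multiplicative N →* Multiplicative M}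
    (h : phiOf cH cG x ψ = phiOf cH cG x ψ') : ψ = ψ' := by
  obtain ⟨z⟩ := ‹Nonempty T.left›
  obtain ⟨V, hV, hzV, -⟩ := exists_isAffineOpen_mem_and_subset (X := T.left) (x := z) (U := ⊤) (Set.mem_univ z)
  let T₁ : Over S := Over.mk (V.ι ≫ T.hom)
  let j₁ : T₁ ⟶ T := Over.homMk V.ι rfl
  haveI : IsAffine T₁.left := hV
  let A := MonoidAlgebra Γ(T₁.left, ⊤) (Multiplicative M)
  have h1 := congrArg (fun φ => lift (ptA cH (j₁ ≫ x) (MonoidAlgebra.of Γ(T₁.left, ⊤) (Multiplicative M)))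
    (tq T₁ A ≫ j₁) ≫ φ) h
  simp only [lift_phiOf] at h1
  have h2 := congrArg (cG.pts ((tq T₁ A ≫ j₁) ≫ x)) h1
  rw [Equiv.apply_symm_apply, Equiv.apply_symm_apply, ptA, Category.assoc, Equiv.apply_symm_apply] at h2
  haveI : Nonempty T₁.left := ⟨⟨z, hzV⟩⟩
  haveI : Nontrivial Γ(T₁.left, ⊤) := PrimeSpectrum.nontrivial (T₁.left.isoSpec.hom ⟨z, hzV⟩ : PrimeSpectrum Γ(T₁.left, ⊤))
  refine MonoidHom.ext fun n => ?_
  have h3 := (gam (T := T₁) A).injective (DFunLike.congr_fun h2 n)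
  exact MonoidAlgebra.single_left_injective one_ne_zero h3

end DiagHomLib
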