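import Groth.Agent.DiagHomLib.Global
import Groth.Agent.RepDescLib.DualConst

/-!
The twisted constant group of characters of a quasi-isotrivial group of multiplicative type.
-/

set_option autoImplicit false
set_option backward.isDefEq.respectTransparency false

noncomputable section

universe u

open CategoryTheory CategoryTheory.Limits MonoidalCategory CartesianMonoidalCategory AlgebraicGeometry Opposite
open scoped MonObj

namespace DiagHomLib

open RepDescLib (homSec famFun)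

variable {S : Scheme.{u}}

theorem exists_dual (H : Over S) [GrpObj H]
    (hH : TwC.Locally S TwC.Topology.etale (fun S' f => ∃ (M : Type) (_ : AddCommGroup M),
      Nonempty (Grp.mk (Red.bc f H) ≅ Grp.mk (Red.DS S' M)))) :
    ∃ (D : Over S) (_ : GrpObj D) (υ : H ⊗ D ⟶ Red.Gm S), AutFam.RepresentsHom H (Red.Gm S) D υ ∧
      (∀ (X : Over S) (h : X ⟶ H) (a b : X ⟶ D), lift h (a * b) ≫ υ = (lift h a ≫ υ) * (lift h b ≫ υ)) ∧
      TwC.IsTwConstGrp TwC.Topology.etale D := by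
  have hd : ∀ s : S, Nonempty (LocData H (Red.Gm S) s) := by
    intro s
    obtain ⟨U, g, hg, hs, M, instM, ⟨w⟩⟩ := hH s
    obtain ⟨c⟩ := exists_chart g w
    exact ⟨{ U := U, g := g, etale := hg, mem := hs, M := M, N := ℤ,
             fg := inferInstance, cH := c, cG := dsChart _ ℤ }⟩
  let d : ∀ s : S, LocData H (Red.Gm S) s := fun s => Classical.choice (hd s)
  obtain ⟨D, u₀, huniv, hpiece⟩ := exists_rep d
  let rep : (famFun H ⋙ forget GrpCat.{u}).RepresentableBy D :=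
    { homEquiv := fun {T} => Equiv.ofBijective (fun a => (homSec H (Red.Gm S)).res a u₀)
        ⟨fun a b hab => (huniv T _).unique hab rfl, fun s => (huniv T s).exists⟩
      homEquiv_comp := fun a b => (homSec H (Red.Gm S)).res_comp a b u₀ }
  letI grpD : GrpObj D := GrpObj.ofRepresentableBy D (famFun H) rep
  have hmul : ∀ (T : Over S) (a b : T ⟶ D), (H ◁ (a * b)) ≫ u₀.1 = ((H ◁ a) ≫ u₀.1) * ((H ◁ b) ≫ u₀.1) :=
    fun T a b => congrArg Subtype.val (GalTwLib.homEquiv_mul rep a b)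
  refine ⟨D, grpD, u₀.1, RepDescLib.representsHom_of_rep H (Red.Gm S) u₀ huniv, fun X r a b => ?_, fun s => ?_⟩
  · have := lift r (𝟙 X) ≫= hmul X a b
    simpa [MonObj.comp_mul] using this
  obtain ⟨θ, hθi, hθ⟩ := hpiece s
  haveI := hθi
  refine ⟨(d s).U, (d s).g, (d s).etale, (d s).mem, Idx.{u} (d s).M (d s).N, inferInstance, (asIso θ).symm, ?_⟩
  intro m n
  let adj := Over.mapPullbackAdj (d s).g
  show (TwC.pt (d s).U (Idx.{u} (d s).M (d s).N) m ≫ θ) * (TwC.pt (d s).U (Idx.{u} (d s).M (d s).N) n ≫ θ) = TwC.pt (d s).U (Idx.{u} (d s).M (d s).N) (m * n) ≫ θ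
  apply (adj.homEquiv (𝟙_ (Over (d s).U)) D).symm.injective
  have e : (adj.homEquiv (𝟙_ (Over (d s).U)) D).symm ((TwC.pt (d s).U (Idx.{u} (d s).M (d s).N) m ≫ θ) * (TwC.pt (d s).U (Idx.{u} (d s).M (d s).N) n ≫ θ)) =
      (adj.homEquiv (𝟙_ (Over (d s).U)) D).symm (TwC.pt (d s).U (Idx.{u} (d s).M (d s).N) m ≫ θ) *
        (adj.homEquiv (𝟙_ (Over (d s).U)) D).symm (TwC.pt (d s).U (Idx.{u} (d s).M (d s).N) n ≫ θ) := by
    apply (adj.homEquiv (𝟙_ (Over (d s).U)) D).injective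
    rw [AlgGrp.Action.homEquiv_mul, Equiv.apply_symm_apply, Equiv.apply_symm_apply, Equiv.apply_symm_apply]
  refine (huniv _ _).unique (Subtype.ext ?_) rfl
  show (H ◁ _) ≫ u₀.1 = (H ◁ _) ≫ u₀.1
  rw [e, hmul]
  rw [show m = ⟨m.down⟩ from rfl, show n = ⟨n.down⟩ from rfl]
  rw [hθ, hθ, ← phiOf_mul]
  exact (hθ (m.down * n.down)).symm

end DiagHomLib
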