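import Groth.Agent.DiagHomLib.Chart
import Groth.Agent.RepDescLib.Basic
import Groth.Prelude.Def_TwC

/-!
Over a piece, the homomorphisms between diagonalisable groups form a constant scheme.
-/

set_option autoImplicit false
set_option backward.isDefEq.respectTransparency false

noncomputable section

universe u

open CategoryTheory CategoryTheory.Limits MonoidalCategory CartesianMonoidalCategory AlgebraicGeometry
open scoped MonObj

namespace DiagHomLib

open RepDescLib (homSec isSheaf_homSec IsRepOver)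

variable {S : Scheme.{u}} {H G P : Over S} [GrpObj H] [GrpObj G] {M N : Type} [AddCommGroup M] [AddCommGroup N]
  (cH : DiagChart H P M) (cG : DiagChart G P N)

/-- The maps of character groups, in the universe of the schemes. -/
abbrev Idx (M N : Type) [AddCommGroup M] [AddCommGroup N] : Type u :=
  ULift.{u} (Multiplicative N →* Multiplicative M)

/-- The constant scheme of maps of character groups over the piece. -/
def homObj (P : Over S) (M N : Type) [AddCommGroup M] [AddCommGroup N] : Over S :=
  Over.mk ((Limits.Sigma.desc fun _ : Idx.{u} M N => 𝟙 P.left) ≫ P.hom)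

/-- Its projection. -/
def homProj (P : Over S) (M N : Type) [AddCommGroup M] [AddCommGroup N] : homObj P M N ⟶ P :=
  Over.homMk (Limits.Sigma.desc fun _ : Idx.{u} M N => 𝟙 P.left) rfl

/-- The member of a given index. -/
def homPt (P : Over S) {M N : Type} [AddCommGroup M] [AddCommGroup N] (ψ : Multiplicative N →* Multiplicative M) :
    P ⟶ homObj P M N :=
  Over.homMk (Sigma.ι (fun _ : Idx.{u} M N => P.left) ⟨ψ⟩) (by
    show Sigma.ι (fun _ : Idx.{u} M N => P.left) ⟨ψ⟩ ≫ (Limits.Sigma.desc fun _ : Idx.{u} M N => 𝟙 P.left) ≫ P.hom = P.hom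
    rw [Sigma.ι_desc_assoc, Category.id_comp])

theorem homPt_proj (ψ : Multiplicative N →* Multiplicative M) : homPt P ψ ≫ homProj P M N = 𝟙 P :=
  Over.OverMorphism.ext (Sigma.ι_desc _ _)

theorem homPt_disjoint {T : Over S} [Nonempty T.left] (a b : T ⟶ P) {ψ ψ' : Multiplicative N →* Multiplicative M}
    (e : a ≫ homPt P ψ = b ≫ homPt P ψ') : ψ = ψ' := by
  by_contra hne
  have e' : a.left ≫ Sigma.ι (fun _ : Idx.{u} M N => P.left) ⟨ψ⟩ = b.left ≫ Sigma.ι (fun _ : Idx.{u} M N => P.left) ⟨ψ'⟩ :=
    congrArg Over.Hom.left e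
  exact (isEmpty_of_commSq_sigmaι_of_ne ⟨e'⟩ (fun h => hne (congrArg ULift.down h))).false (Classical.arbitrary T.left)

/-- A point of the constant scheme is locally a member. -/
theorem exists_cover_homObj {T : Over S} (b : T ⟶ homObj P M N) (z : T.left) :
    ∃ (U : Over S) (j : U ⟶ T), IsOpenImmersion j.left ∧ z ∈ Set.range j.left ∧
      ∃ ψ : Multiplicative N →* Multiplicative M, j ≫ b = (j ≫ b ≫ homProj P M N) ≫ homPt P ψ := by
  obtain ⟨⟨ψ⟩, w, hw⟩ := DescLib.exists_sigma_mem (Z := fun _ : Idx.{u} M N => P.left) (b.left z)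
  let ι₀ := Sigma.ι (fun _ : Idx.{u} M N => P.left) ⟨ψ⟩
  let U : Over S := Over.mk (pullback.fst b.left ι₀ ≫ T.hom)
  let j : U ⟶ T := Over.homMk (pullback.fst b.left ι₀) rfl
  obtain ⟨v, hv, -⟩ := Scheme.Pullback.exists_preimage_pullback (f := b.left) (g := ι₀) z w hw.symm
  refine ⟨U, j, inferInstanceAs (IsOpenImmersion (pullback.fst b.left ι₀)), ⟨v, hv⟩, ψ, Over.OverMorphism.ext ?_⟩
  show pullback.fst b.left ι₀ ≫ b.left = (pullback.fst b.left ι₀ ≫ b.left ≫ (Sigma.desc fun _ => 𝟙 P.left)) ≫ ι₀
  rw [← Category.assoc, pullback.condition, Category.assoc (pullback.snd _ _) ι₀, Sigma.ι_desc, Category.comp_id]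

variable [AddGroup.FG N]

/-- The constant scheme carries the universal family. -/
theorem exists_homFam : ∃ u : (homSec H G).obj (homObj P M N),
    (∀ ψ, (homSec H G).res (homPt P ψ) u = ⟨phiOf cH cG (𝟙 P) ψ, isHomFamily_phiOf cH cG _ ψ⟩) ∧
    IsRepOver (homSec H G) (homProj P M N) u := by
  obtain ⟨u, hu, -⟩ := (isSheaf_homSec H G).glue (fun _ : Idx.{u} M N => P) (fun i => homPt P i.down)
    (fun i => inferInstanceAs (IsOpenImmersion (Sigma.ι (fun _ : Idx.{u} M N => P.left) ⟨i.down⟩)))
    (fun t => by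
      obtain ⟨⟨ψ⟩, w, hw⟩ := DescLib.exists_sigma_mem (Z := fun _ : Idx.{u} M N => P.left) t
      exact ⟨⟨ψ⟩, w, hw⟩)
    (fun i => ⟨phiOf cH cG (𝟙 P) i.down, isHomFamily_phiOf cH cG _ i.down⟩) (by
      intro i i' T'' a b e
      by_cases hT : Nonempty T''.left
      · obtain rfl : a = b := by simpa [Category.assoc, homPt_proj] using e =≫ homProj P M N
        obtain rfl : i = i' := ULift.ext _ _ (homPt_disjoint a a e)
        rfl
      · haveI : IsEmpty T''.left := not_nonempty_iff.1 hT
        exact ((isSheaf_homSec H G).glue («ι» := PEmpty.{u + 1}) (T := T'') (fun i => i.elim) (fun i => i.elim)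
          (fun i => i.elim) (fun t => isEmptyElim t) (fun i => i.elim) (fun i => i.elim)).unique
          (fun i => i.elim) (fun i => i.elim))
  have hval : ∀ {T : Over S} (c : T ⟶ P) (ψ : Multiplicative N →* Multiplicative M),
      (H ◁ (c ≫ homPt P ψ)) ≫ u.1 = phiOf cH cG c ψ := by
    intro T c ψ
    rw [MonoidalCategory.whiskerLeft_comp, Category.assoc,
      show (H ◁ homPt P ψ) ≫ u.1 = phiOf cH cG (𝟙 P) ψ from congrArg Subtype.val (hu ⟨ψ⟩), phiOf_natural,
      Category.comp_id]
  refine ⟨u, fun ψ => hu ⟨ψ⟩, fun T x s => ?_⟩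
  obtain ⟨φ, hφ⟩ := s
  -- two points with the same projection and family agree
  have huniq : ∀ {T' : Over S} (a b : T' ⟶ homObj P M N), a ≫ homProj P M N = b ≫ homProj P M N →
      (H ◁ a) ≫ u.1 = (H ◁ b) ≫ u.1 → a = b := by
    intro T' a b e₁ e₂
    choose U j hj hjz ψ hψ using exists_cover_homObj a
    choose U' j' hj' hjz' ψ' hψ' using exists_cover_homObj b
    let V : T'.left → Over S := fun z => Over.mk (pullback.fst (j z).left (j' z).left ≫ (U z).hom)
    let k : ∀ z, V z ⟶ U z := fun z => Over.homMk (pullback.fst (j z).left (j' z).left) rfl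
    let k' : ∀ z, V z ⟶ U' z := fun z => Over.homMk (pullback.snd (j z).left (j' z).left) (by
      show pullback.snd _ _ ≫ (U' z).hom = pullback.fst _ _ ≫ (U z).hom
      rw [← Over.w (j z), ← Over.w (j' z), pullback.condition_assoc])
    have hk : ∀ z, k' z ≫ j' z = k z ≫ j z := fun z => Over.OverMorphism.ext pullback.condition.symm
    have hVo : ∀ z, IsOpenImmersion (k z ≫ j z).left := fun z =>
      haveI := hj z
      haveI := hj' z
      inferInstanceAs (IsOpenImmersion (pullback.fst (j z).left (j' z).left ≫ (j z).left))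
    have hVc : ∀ t, ∃ z, t ∈ Set.range (k z ≫ j z).left := fun t => by
      obtain ⟨y, hy⟩ := hjz t
      obtain ⟨y', hy'⟩ := hjz' t
      obtain ⟨w, hw, -⟩ := Scheme.Pullback.exists_preimage_pullback (f := (j t).left) (g := (j' t).left) y y'
        (hy.trans hy'.symm)
      exact ⟨t, w, by rw [Over.comp_left, Scheme.Hom.comp_apply]; exact (congrArg (j t).left hw).trans hy⟩
    refine (RepDescLib.hom_glue V (fun z => k z ≫ j z) hVo hVc (fun z => (k z ≫ j z) ≫ b)
      fun i i' T'' p q e => by rw [← Category.assoc, e, Category.assoc]).unique (fun z => ?_) (fun z => rfl)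
    let c := (k z ≫ j z) ≫ a ≫ homProj P M N
    have ha : (k z ≫ j z) ≫ a = c ≫ homPt P (ψ z) := by
      rw [Category.assoc, hψ]; simp [c]
    have hb : (k z ≫ j z) ≫ b = c ≫ homPt P (ψ' z) := by
      rw [← hk, Category.assoc, hψ']
      simp only [c, e₁, Category.assoc]
      rw [← Category.assoc (k z) (j z), ← hk, Category.assoc]
    rw [ha, hb]
    by_cases hV : Nonempty (V z).left
    · have : phiOf cH cG c (ψ z) = phiOf cH cG c (ψ' z) := by
        rw [← hval, ← hval, ← ha, ← hb]
        simp only [MonoidalCategory.whiskerLeft_comp, Category.assoc, e₂]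
      rw [phiOf_injective cH cG c this]
    · haveI : IsEmpty (V z).left := not_nonempty_iff.1 hV
      exact Over.OverMorphism.ext (isInitialOfIsEmpty.hom_ext _ _)
  choose U j hj hjz ψ hψ using exists_open_phiOf cH cG x φ hφ
  obtain ⟨a, ha, -⟩ := RepDescLib.hom_glue U j hj (fun t => ⟨t, hjz t⟩) (fun z => (j z ≫ x) ≫ homPt P (ψ z))
    fun i i' T'' p q e => by
      refine huniq _ _ ?_ ?_
      · simp only [Category.assoc, homPt_proj, Category.comp_id]
        rw [← Category.assoc, e, Category.assoc]
      · rw [← Category.assoc, hval, ← Category.assoc q, hval, ← phiOf_natural cH cG p, ← phiOf_natural cH cG q,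
          ← hψ, ← hψ, ← Category.assoc, ← MonoidalCategory.whiskerLeft_comp, ← Category.assoc,
          ← MonoidalCategory.whiskerLeft_comp, e]
  refine ⟨a, ⟨?_, ?_⟩, fun b ⟨hb₁, hb₂⟩ => ?_⟩
  · refine (RepDescLib.hom_glue U j hj (fun t => ⟨t, hjz t⟩) (fun z => j z ≫ x)
      fun i i' T'' p q e => by rw [← Category.assoc, e, Category.assoc]).unique (fun z => ?_) (fun z => rfl)
    rw [← Category.assoc, ha, Category.assoc, homPt_proj, Category.comp_id]
  · refine ((isSheaf_homSec H G).glue U j hj (fun t => ⟨t, hjz t⟩) (fun z => (homSec H G).res (j z) ⟨φ, hφ⟩)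
      fun i i' T'' p q e => by rw [← (homSec H G).res_comp, e, (homSec H G).res_comp]).unique (fun z => ?_)
      (fun z => rfl)
    rw [← (homSec H G).res_comp, ha]
    exact Subtype.ext ((hval _ _).trans (hψ z).symm)
  · refine huniq b a ?_ ?_
    · rw [hb₁]
      exact ((RepDescLib.hom_glue U j hj (fun t => ⟨t, hjz t⟩) (fun z => j z ≫ x)
        fun i i' T'' p q e => by rw [← Category.assoc, e, Category.assoc]).unique (fun z => by
          rw [← Category.assoc, ha, Category.assoc, homPt_proj, Category.comp_id]) (fun z => rfl)).symm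
    · have h1 : (homSec H G).res a u = ⟨φ, hφ⟩ :=
        ((isSheaf_homSec H G).glue U j hj (fun t => ⟨t, hjz t⟩) (fun z => (homSec H G).res (j z) ⟨φ, hφ⟩)
          fun i i' T'' p q e => by rw [← (homSec H G).res_comp, e, (homSec H G).res_comp]).unique
          (fun z => by
            rw [← (homSec H G).res_comp, ha]
            exact Subtype.ext ((hval _ _).trans (hψ z).symm)) (fun z => rfl)
      exact congrArg Subtype.val (hb₂.trans h1.symm)

theorem etale_homProj : Etale (homProj P M N).left := by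
  refine IsZariskiLocalAtSource.of_openCover (P := @Etale) (sigmaOpenCover _) fun i => ?_
  change Etale (Sigma.ι (fun _ : Idx.{u} M N => P.left) i ≫ Limits.Sigma.desc _)
  rw [Sigma.ι_desc]
  infer_instance

end DiagHomLib
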